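import Mathlib
import Groth.Prelude.Def_Curv2
import Groth.Prelude.Def_Found
import Groth.Agent.NormalSch.Basic
import Groth.Agent.RegLocal.Basic
import Groth.Agent.RegLocal.UFD
import Groth.Agent.RegLocal.Consequences
import Groth.Agent.GenFree.Scheme
import Groth.Agent.CurveLib.SmulPow
import Groth.Agent.DevLib.Closed
import Groth.Agent.S0002

/-! A Noetherian domain with a regular alteration is N-1 and generically regular. -/

set_option autoImplicit false
set_option backward.isDefEq.respectTransparency false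
set_option linter.style.haveILetI false

universe u

open CategoryTheory CategoryTheory.Limits AlgebraicGeometry
open Groth.Agent.CohBase

namespace Groth.Agent.AlterN1

theorem isNormalScheme_of_regular (X : Scheme.{u})
    (hreg : ∀ x : X, IsRegularLocalRing (X.presheaf.stalk x)) : Pi1.IsNormalScheme X := fun x => by
  haveI := hreg x
  haveI : IsDomain (X.presheaf.stalk x) := RegLocal.isDomain _
  haveI := RegLocal.ufd (X.presheaf.stalk x)
  exact ⟨inferInstance, inferInstance⟩

variable {A : Type u} [CommRing A] {X : Scheme.{u}} [X.Over (Spec (CommRingCat.of A))]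

theorem finite_global [IsNoetherianRing A] [IsProper (X ↘ Spec (CommRingCat.of A))] :
    letI := (show A →+* Γ(X, ⊤) from Coh.toGlobal (X ↘ Spec (CommRingCat.of A))).toAlgebra
    Module.Finite A Γ(X, ⊤) := by
  letI := (show A →+* Γ(X, ⊤) from Coh.toGlobal (X ↘ Spec (CommRingCat.of A))).toAlgebra
  haveI : IsLocallyNoetherian X := LocallyOfFiniteType.isLocallyNoetherian (X ↘ Spec (CommRingCat.of A))
  haveI := Groth.Agent.S0002.result A X _ (DevLib.isCoh_structureModule X) 0
  let e : Coh.HH X (Coh.structureModule X) 0 →ₗ[A] Γ(X, ⊤) :=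
    { (CurveLib.secOf (Coh.structureModule X)).toAddMonoidHom with
      map_smul' := fun r c => by
        change H0Equiv (⊤ : X.Opens) (Coh.toAb (Coh.structureModule X))
          (HEquiv _ 0 (Sheaf.H.map (Coh.smulAb (Coh.structureModule X) _) 0 c)) = _
        rw [HEquiv_map, H0Equiv_hmap, Coh.smulAb_app]
        exact congrArg (fun a : Γ(X, ⊤) => a • CurveLib.secOf (Coh.structureModule X) c)
          (ConcreteCategory.congr_hom (X.presheaf.map_id _) _) }
  exact Module.Finite.of_surjective e (CurveLib.secOf (Coh.structureModule X)).surjective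

theorem toGlobal_injective [IsReduced X] [_root_.IsReduced A] [IsDominant (X ↘ Spec (CommRingCat.of A))] :
    Function.Injective (Coh.toGlobal (X ↘ Spec (CommRingCat.of A))) := by
  rw [injective_iff_map_eq_zero]
  intro a ha
  set f := X ↘ Spec (CommRingCat.of A)
  have hpre : f ⁻¹ᵁ ((Spec (CommRingCat.of A)).basicOpen ((Scheme.ΓSpecIso (CommRingCat.of A)).inv a)) = ⊥ := by
    rw [Scheme.preimage_basicOpen_top,
      show f.appTop ((Scheme.ΓSpecIso (CommRingCat.of A)).inv a) = 0 from ha, Scheme.basicOpen_zero]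
  rw [basicOpen_eq_of_affine'] at hpre
  simp only [Iso.inv_hom_id_apply] at hpre
  refine IsNilpotent.eq_zero (PrimeSpectrum.basicOpen_eq_bot_iff a |>.mp ?_)
  by_contra hne
  obtain ⟨p, hp⟩ := (TopologicalSpace.Opens.ne_bot_iff_nonempty _).mp hne
  obtain ⟨x, hx⟩ := f.denseRange.exists_mem_open (PrimeSpectrum.basicOpen a).2 ⟨p, hp⟩
  exact (hpre.le hx : x ∈ (⊥ : X.Opens))

theorem isN1 [IsDomain A] [IsNoetherianRing A] [IsProper (X ↘ Spec (CommRingCat.of A))] [IsIntegral X]
    [IsDominant (X ↘ Spec (CommRingCat.of A))] (hX : Pi1.IsNormalScheme X) : CAlg.IsN1 A := by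
  letI algΓ : Algebra A Γ(X, ⊤) := (show A →+* Γ(X, ⊤) from Coh.toGlobal (X ↘ Spec (CommRingCat.of A))).toAlgebra
  haveI : Module.Finite A Γ(X, ⊤) := finite_global
  haveI : Nonempty (⊤ : X.Opens) := ⟨⟨genericPoint X, trivial⟩⟩
  letI : Algebra A X.functionField :=
    ((algebraMap Γ(X, ⊤) X.functionField).comp (algebraMap A Γ(X, ⊤))).toAlgebra
  haveI : IsScalarTower A Γ(X, ⊤) X.functionField := IsScalarTower.of_algebraMap_eq fun _ => rfl
  have hinj : Function.Injective (algebraMap A X.functionField) :=
    (X.germToFunctionField_injective ⊤).comp toGlobal_injective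
  let ι : FractionRing A →ₐ[A] X.functionField :=
    IsFractionRing.liftAlgHom (g := Algebra.ofId A X.functionField) hinj
  let B := integralClosure A (FractionRing A)
  let g : B →ₗ[A] X.functionField := ι.toLinearMap ∘ₗ B.val.toLinearMap
  have hg : LinearMap.range g ≤ LinearMap.range (IsScalarTower.toAlgHom A Γ(X, ⊤) X.functionField).toLinearMap := by
    rintro _ ⟨b, rfl⟩
    obtain ⟨s, hs⟩ := NormalSch.exists_section_of_isIntegral hX ⊤ (ι b.1) ((b.2.map ι).tower_top)
    exact ⟨s, hs⟩
  haveI : IsNoetherian A (LinearMap.range (IsScalarTower.toAlgHom A Γ(X, ⊤) X.functionField).toLinearMap) :=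
    isNoetherian_of_isNoetherianRing_of_finite A _
  exact Module.Finite.of_injective
    (Submodule.inclusion hg ∘ₗ g.rangeRestrict)
    ((Submodule.inclusion_injective hg).comp fun b c h =>
      Subtype.ext (ι.toRingHom.injective (congrArg Subtype.val h)))

/-- Regularity descends to a nonempty open under a proper dominant morphism to a reduced scheme. -/
theorem exists_regular_open {S Y : Scheme.{u}} (f : Y ⟶ S) [IsProper f] [IsDominant f] [IsReduced S]
    [IsLocallyNoetherian S] [Nonempty S] (hreg : ∀ y : Y, IsRegularLocalRing (Y.presheaf.stalk y)) :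
    ∃ U : S.Opens, (U : Set S).Nonempty ∧ ∀ s ∈ U, IsRegularLocalRing (S.presheaf.stalk s) := by
  obtain ⟨U, hU, hflat, -⟩ := GenFree.exists_good_open f
  refine ⟨U, hU.nonempty, fun s hs => ?_⟩
  have hsurj : Function.Surjective f := by
    rw [← Set.range_eq_univ, ← f.denseRange.closure_range, (f.isClosedMap.isClosed_range).closure_eq]
  obtain ⟨y, rfl⟩ := hsurj s
  have h1 : ((f ∣_ U).stalkMap ⟨y, hs⟩).hom.Flat := Flat.stalkMap _ _
  have h2 : (f.stalkMap y).hom.Flat :=
    ((RingHom.Flat.respectsIso).arrow_mk_iso_iff (morphismRestrictStalkMap f U ⟨y, hs⟩)).mp h1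
  letI := (f.stalkMap y).hom.toAlgebra
  haveI : Module.Flat (S.presheaf.stalk (f y)) (Y.presheaf.stalk y) := h2
  haveI : IsLocalHom (algebraMap (S.presheaf.stalk (f y)) (Y.presheaf.stalk y)) :=
    inferInstanceAs (IsLocalHom (f.stalkMap y).hom)
  haveI := hreg y
  exact RegLocal.isRegularLocalRing_of_flat (S.presheaf.stalk (f y)) (Y.presheaf.stalk y)

end Groth.Agent.AlterN1
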